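import Cfsg.Agent.ONanOut.Defs

/-! Kernel checks for the element of order 19 (its fixed points and the profile search). -/

set_option autoImplicit false
set_option Elab.async false
set_option maxRecDepth 100000

namespace CfsgLib.ONanOut

open CfsgLib.CosetEnum

theorem prof0 : allR okProf 12 110790 = true := by decide +kernel

theorem prof1 : allR okProf 11 114886 = true := by decide +kernel

theorem orbDown : allR okOrb 13 110790 = true := by decide +kernel

end CfsgLib.ONanOut
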