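import Cfsg.Agent.ONanOut.Points
import Cfsg.Agent.ONanOut.CheckA

/-!
Given the bound on the order: the stabiliser of `0` preserves the five classes, so the relation is
invariant; the stabiliser of `0` and `110852` is listed and three points form a base.
-/

set_option autoImplicit false
set_option maxRecDepth 100000

namespace CfsgLib.ONanOut

open CfsgLib.CosetEnum CfsgLib.ONanAct

noncomputable section

/-- The subgroup of the six node generators. -/
def H : Subgroup Cfsg.Spor.ON := Subgroup.closure (gen '' {x | x < 6})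

theorem gen_mem_H {x : ℕ} (hx : x < 6) : gen x ∈ H := Subgroup.subset_closure ⟨x, hx, rfl⟩

theorem prodw_mem_H (w : List ℕ) (hw : ∀ x ∈ w, x < 6) : prodw gen w ∈ H := by
  refine Subgroup.list_prod_mem _ fun u hu => ?_
  obtain ⟨x, hx, rfl⟩ := List.mem_map.mp hu
  exact gen_mem_H (hw x hx)

theorem zero_fixed : ∀ x < 6, img x 0 = 0 := by decide +kernel

theorem pt_zero_of_mem {z : Cfsg.Spor.ON} (hz : z ∈ H) : pt z 0 = 0 := by
  induction hz using Subgroup.closure_induction with
  | mem y hy =>
    obtain ⟨x, hx, rfl⟩ := hy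
    have hx' : x < 6 := hx
    rw [pt_gen (by omega) (by norm_num)]
    exact zero_fixed x hx'
  | one => exact pt_one 0
  | mul y z _ _ h1 h2 => rw [pt_mul, h1, h2]
  | inv y _ h1 => conv_lhs => rw [← h1, pt_inv_pt]

/-- Every point of the fourth class is reached inside `H`. -/
theorem exists_H_of_class (i : ℕ) (h1 : 110790 ≤ i) (h2 : i < 116376) :
    ∃ z ∈ H, pt z 110790 = i := by
  induction i using Nat.strong_induction_on with
  | _ i ih =>
    by_cases h0 : i = 110790
    · exact ⟨1, one_mem _, by rw [pt_one, h0]⟩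
    have h := allR_spec 13 110790 orbDown i h1 (by omega)
    have hb : (Nat.blt 110790 i && Nat.blt i 116376) = true := by
      simp only [Bool.and_eq_true, Nat.blt_eq]; omega
    rw [okOrb, hb, cond_true, List.any_eq_true] at h
    obtain ⟨x, hx, h⟩ := h
    rw [force_eq, Bool.and_eq_true] at h
    have hx6 : x < 6 := by simp at hx; omega
    have hlo : 110790 ≤ img x i := Nat.le_of_ble_eq_true h.1
    have hlt : img x i < i := Nat.le_of_ble_eq_true h.2
    obtain ⟨z, hz, hzi⟩ := ih _ hlt hlo (by omega)
    refine ⟨z * (gen x)⁻¹, mul_mem hz (inv_mem (gen_mem_H hx6)), ?_⟩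
    rw [pt_mul, hzi, ← pt_gen (by omega) (by omega : i < 122760), pt_inv_pt]

theorem stab_facts :
    (stab.all fun w => Nat.beq (walk w 0) 0 && Nat.beq (walk w 110852) 110852 &&
        w.all fun x => Nat.blt x 6) = true ∧
      (stab.map fun w => walk w 110825).Nodup ∧ stab.length = 672 ∧ stab[0]? = some [] := by
  decide +kernel

theorem stab_mem {w : List ℕ} (hw : w ∈ stab) :
    walk w 0 = 0 ∧ walk w 110852 = 110852 ∧ ∀ x ∈ w, x < 6 := by
  have h := List.all_eq_true.mp stab_facts.1 w hw
  simp only [Bool.and_eq_true, List.all_eq_true] at h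
  exact ⟨Nat.eq_of_beq_eq_true h.1.1, Nat.eq_of_beq_eq_true h.1.2,
    fun x hx => Nat.le_of_ble_eq_true (h.2 x hx)⟩

/-- An element of `H` taking `110852` to a given point of its class, trivial for that point. -/
def toClass (k : Fin 5586) : Cfsg.Spor.ON :=
  if k.val = 62 then 1 else
    (exists_H_of_class 110852 (by norm_num) (by norm_num)).choose⁻¹ *
      (exists_H_of_class (110790 + k.val) (by omega) (by omega)).choose

theorem toClass_spec (k : Fin 5586) : toClass k ∈ H ∧ pt (toClass k) 110852 = 110790 + k.val := by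
  unfold toClass
  split_ifs with h
  · exact ⟨one_mem _, by rw [pt_one]; omega⟩
  · obtain ⟨ha, hau⟩ := (exists_H_of_class 110852 (by norm_num) (by norm_num)).choose_spec
    obtain ⟨hb, hbu⟩ := (exists_H_of_class (110790 + k.val) (by omega) (by omega)).choose_spec
    refine ⟨mul_mem (inv_mem ha) hb, ?_⟩
    have key := congrArg (fun u => pt (exists_H_of_class 110852 (by norm_num) (by norm_num)).choose⁻¹ u) hau
    simp only [pt_inv_pt] at key
    rw [pt_mul, ← key, hbu]

/-- The stabiliser of `0`. -/
def S0 : Subgroup Cfsg.Spor.ON where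
  carrier := {z | pt z 0 = 0}
  one_mem' := pt_one 0
  mul_mem' := fun {y z} (hy : pt y 0 = 0) (hz : pt z 0 = 0) => by
    show pt (y * z) 0 = 0
    rw [pt_mul, hy, hz]
  inv_mem' := fun {y} (hy : pt y 0 = 0) => by
    show pt y⁻¹ 0 = 0
    conv_lhs => rw [← hy, pt_inv_pt]

theorem mem_S0 {z : Cfsg.Spor.ON} : z ∈ S0 ↔ pt z 0 = 0 := Iff.rfl

/-- The elements found in `S0`: a stabiliser word followed by a move of `110852`. -/
def found (a : Fin stab.length × Fin 5586) : S0 :=
  ⟨prodw gen stab[a.1.val] * toClass a.2, by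
    obtain ⟨h0, -, hlt⟩ := stab_mem (List.getElem_mem a.1.2)
    rw [mem_S0, pt_mul, pt_zero_of_mem (prodw_mem_H _ hlt), pt_zero_of_mem (toClass_spec a.2).1]⟩

theorem pt_found (a : Fin stab.length × Fin 5586) :
    pt (found a : Cfsg.Spor.ON) 110852 = 110790 + a.2.val := by
  obtain ⟨-, h1, hlt⟩ := stab_mem (List.getElem_mem a.1.2)
  show pt (prodw gen stab[a.1.val] * toClass a.2) 110852 = _
  rw [pt_mul, pt_word _ (fun x hx => by have := hlt x hx; omega) (by norm_num)]
  rw [show walk stab[a.1.val] 110852 = 110852 from h1]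
  exact (toClass_spec a.2).2

theorem found_injective : Function.Injective found := by
  rintro ⟨i, k⟩ ⟨j, l⟩ h
  have hkl : k = l := by
    have e := congrArg (fun z : S0 => pt (z : Cfsg.Spor.ON) 110852) h
    simp only [pt_found] at e
    exact Fin.ext (by omega)
  subst hkl
  have e : prodw gen stab[i.val] = prodw gen stab[j.val] :=
    mul_right_cancel (congrArg Subtype.val h)
  have e' := congrArg (fun z => pt z 110825) e
  have hlt : ∀ m : Fin stab.length, ∀ x ∈ stab[m.val], x < 8 := fun m x hx => by
    have := (stab_mem (List.getElem_mem m.2)).2.2 x hx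
    omega
  simp only [pt_word _ (hlt i) (show 110825 < 122760 by norm_num),
    pt_word _ (hlt j) (show 110825 < 122760 by norm_num)] at e'
  have ha : (i : ℕ) < (stab.map fun w => walk w 110825).length := by simp
  have hb : (j : ℕ) < (stab.map fun w => walk w 110825).length := by simp
  have := (stab_facts.2.1.getElem_inj_iff (hi := ha) (hj := hb)).mp (by simpa using e')
  exact Prod.ext (Fin.ext this) rfl

variable [Finite Cfsg.Spor.ON] (hle : Nat.card Cfsg.Spor.ON ≤ 460815505920)
include hle

theorem card_S0_le : Nat.card S0 ≤ 3753792 := by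
  let f : Fin 122760 × S0 → Cfsg.Spor.ON := fun a => (a.2 : Cfsg.Spor.ON) * (exists_pt a.1.isLt).choose
  have hinj : Function.Injective f := by
    rintro ⟨i, y⟩ ⟨j, z⟩ h
    have e := congrArg (fun u => pt u 0) h
    simp only [f, pt_mul, mem_S0.mp y.2, mem_S0.mp z.2, (exists_pt i.isLt).choose_spec,
      (exists_pt j.isLt).choose_spec] at e
    obtain rfl : i = j := Fin.ext e
    exact Prod.ext rfl (Subtype.ext (mul_right_cancel h))
  have h := Nat.card_le_card_of_injective f hinj
  rw [Nat.card_prod, Nat.card_fin] at h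
  omega

theorem found_surjective : Function.Surjective found := by
  refine ((Nat.bijective_iff_injective_and_card found).mpr ⟨found_injective, ?_⟩).2
  have h1 := Nat.card_le_card_of_injective found found_injective
  have h2 := card_S0_le hle
  rw [Nat.card_prod, Nat.card_fin, Nat.card_fin, stab_facts.2.2.1] at h1 ⊢
  omega

/-- An element fixing `0` lies in `H`. -/
theorem mem_H_of_fix {z : Cfsg.Spor.ON} (h : pt z 0 = 0) : z ∈ H := by
  obtain ⟨a, ha⟩ := found_surjective hle ⟨z, h⟩
  rw [show z = prodw gen stab[a.1.val] * toClass a.2 from (congrArg Subtype.val ha).symm]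
  exact mul_mem (prodw_mem_H _ (stab_mem (List.getElem_mem a.1.2)).2.2) (toClass_spec a.2).1

/-- An element fixing `0` and `110852` is a stabiliser word. -/
theorem exists_stab {z : Cfsg.Spor.ON} (h : pt z 0 = 0) (h' : pt z 110852 = 110852) :
    ∃ w ∈ stab, z = prodw gen w := by
  obtain ⟨a, ha⟩ := found_surjective hle ⟨z, h⟩
  have e : z = prodw gen stab[a.1.val] * toClass a.2 := (congrArg Subtype.val ha).symm
  refine ⟨stab[a.1.val], List.getElem_mem a.1.2, ?_⟩
  have hk : a.2.val = 62 := by
    have := pt_found a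
    rw [show (found a : Cfsg.Spor.ON) = z from congrArg Subtype.val ha, h'] at this
    omega
  rw [e, toClass, if_pos hk, mul_one]

/-- The three base points determine an element. -/
theorem eq_one_of_base {z : Cfsg.Spor.ON} (h : pt z 0 = 0) (h' : pt z 110852 = 110852)
    (h'' : pt z 110825 = 110825) : z = 1 := by
  obtain ⟨w, hw, rfl⟩ := exists_stab hle h h'
  have hlt : ∀ x ∈ w, x < 8 := fun x hx => by have := (stab_mem hw).2.2 x hx; omega
  rw [pt_word w hlt (by norm_num)] at h''
  obtain ⟨h0, hlen⟩ := List.getElem?_eq_some_iff.mp stab_facts.2.2.2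
  obtain ⟨i, hi, rfl⟩ := List.getElem_of_mem hw
  have ha : i < (stab.map fun w => walk w 110825).length := by simpa using hi
  have hb : 0 < (stab.map fun w => walk w 110825).length := by simpa using h0
  have : i = 0 := (stab_facts.2.1.getElem_inj_iff (hi := ha) (hj := hb)).mp (by
    simp only [List.getElem_map, hlen, h'', walk_nil])
  subst this
  rw [hlen]; rfl

theorem eq_of_base {y z : Cfsg.Spor.ON} (h : pt y 0 = pt z 0) (h' : pt y 110852 = pt z 110852)
    (h'' : pt y 110825 = pt z 110825) : y = z := by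
  have e : ∀ i, pt y i = pt z i → pt (y * z⁻¹) i = i := fun i hi => by rw [pt_mul, hi, pt_inv_pt]
  exact mul_inv_eq_one.mp (eq_one_of_base hle (e _ h) (e _ h') (e _ h''))

omit [Finite Cfsg.Spor.ON] hle in
theorem eqw_true {v w : List ℕ} (h : eqw v w = true) :
    walk v 0 = walk w 0 ∧ walk v 110852 = walk w 110852 ∧ walk v 110825 = walk w 110825 := by
  simp only [eqw, Bool.and_eq_true] at h
  exact ⟨Nat.eq_of_beq_eq_true h.1.1, Nat.eq_of_beq_eq_true h.1.2, Nat.eq_of_beq_eq_true h.2⟩

theorem eq_of_eqw {v w : List ℕ} (hv : ∀ x ∈ v, x < 8) (hw : ∀ x ∈ w, x < 8)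
    (h : eqw v w = true) : prodw gen v = prodw gen w := by
  obtain ⟨e0, e1, e2⟩ := eqw_true h
  refine eq_of_base hle ?_ ?_ ?_ <;> rw [pt_word v hv (by norm_num), pt_word w hw (by norm_num)] <;>
    assumption

omit [Finite Cfsg.Spor.ON] hle in
theorem eqw_of_eq {v w : List ℕ} (hv : ∀ x ∈ v, x < 8) (hw : ∀ x ∈ w, x < 8)
    (h : prodw gen v = prodw gen w) : eqw v w = true := by
  have e : ∀ i, i < 122760 → walk v i = walk w i := fun i hi => by
    rw [← pt_word v hv hi, h, pt_word w hw hi]
  simp only [eqw, Bool.and_eq_true]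
  exact ⟨⟨by rw [e 0 (by norm_num)]; exact Nat.beq_refl _,
    by rw [e 110852 (by norm_num)]; exact Nat.beq_refl _⟩,
    by rw [e 110825 (by norm_num)]; exact Nat.beq_refl _⟩

end

end CfsgLib.ONanOut
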