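import Cfsg.Agent.ONanOut.Defs

/-! Kernel checks for the element of order 6: pairs of fixed points and the stabiliser search. -/

set_option autoImplicit false
set_option Elab.async false
set_option maxRecDepth 100000

namespace CfsgLib.ONanOut

open CfsgLib.CosetEnum CfsgLib.ONanAct

theorem pairOK : (fixB.all fun f => fixB.all fun g => okPair f g) = true := by decide +kernel

theorem rep0 : (stab.all fun s => okRep (reps.getD 0 (0, 0, [])) s) = true := by decide +kernel

theorem rep1 : (stab.all fun s => okRep (reps.getD 1 (0, 0, [])) s) = true := by decide +kernel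

theorem rep2 : (stab.all fun s => okRep (reps.getD 2 (0, 0, [])) s) = true := by decide +kernel

theorem reps_facts : reps.length = 3 ∧
    (reps.all fun r => Nat.beq (walk r.2.2 0) r.1 && Nat.beq (walk r.2.2 110852) r.2.1 &&
      r.2.2.all fun x => Nat.blt x 8) = true := by
  decide +kernel

theorem ws_facts : (ws.all fun w => eqw (wb ++ w) (w ++ wb) && w.all fun x => Nat.blt x 8) = true ∧
    (zs.all fun w => w.all fun x => Nat.blt x 8) = true ∧ R 0 110852 = 3 := by
  decide +kernel

theorem centA_facts : (stab.all fun s => !(eqw (wa ++ s) (s ++ wa)) || eqw s []) = true ∧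
    orbA = (List.range 19).map (fun i => walk ((List.replicate i wa).flatten) 110852) ∧
    profA = (List.range 18).map (fun i => R 110852 (walk ((List.replicate (i + 1) wa).flatten) 110852)) ∧
    (profA.all fun r => !(Nat.beq r 9)) = true := by
  decide +kernel

end CfsgLib.ONanOut
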