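import Cfsg.Agent.ONanOut.Defs

/-! Kernel checks: the letters `a, …, f` preserve the five classes. -/

set_option autoImplicit false
set_option Elab.async false
set_option maxRecDepth 100000

namespace CfsgLib.ONanOut

open CfsgLib.CosetEnum CfsgLib.ONanAct

/-- The six letters preserve the class of a point. -/
noncomputable def okCls (i : ℕ) : Bool :=
  bif Nat.blt i 122760 then
    List.all [0, 1, 2, 3, 4, 5] fun x => Nat.beq (cls (img x i)) (cls i)
  else true

theorem cls0 : allR okCls 14 0 = true := by decide +kernel

theorem cls1 : allR okCls 14 16384 = true := by decide +kernel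

theorem cls2 : allR okCls 14 32768 = true := by decide +kernel

theorem cls3 : allR okCls 14 49152 = true := by decide +kernel

theorem cls4 : allR okCls 14 65536 = true := by decide +kernel

theorem cls5 : allR okCls 14 81920 = true := by decide +kernel

theorem cls6 : allR okCls 14 98304 = true := by decide +kernel

theorem cls7 : allR okCls 14 114688 = true := by decide +kernel

theorem cls_img (x : ℕ) (hx : x < 6) (i : ℕ) (hi : i < 122760) : cls (img x i) = cls i := by
  have hk : okCls i = true := by
    by_cases g0 : i < 16384
    · exact allR_spec 14 0 cls0 i (Nat.zero_le _) (by omega)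
    by_cases g1 : i < 32768
    · exact allR_spec 14 16384 cls1 i (by omega) (by omega)
    by_cases g2 : i < 49152
    · exact allR_spec 14 32768 cls2 i (by omega) (by omega)
    by_cases g3 : i < 65536
    · exact allR_spec 14 49152 cls3 i (by omega) (by omega)
    by_cases g4 : i < 81920
    · exact allR_spec 14 65536 cls4 i (by omega) (by omega)
    by_cases g5 : i < 98304
    · exact allR_spec 14 81920 cls5 i (by omega) (by omega)
    by_cases g6 : i < 114688
    · exact allR_spec 14 98304 cls6 i (by omega) (by omega)
    exact allR_spec 14 114688 cls7 i (by omega) (by omega)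
  have hb : Nat.blt i 122760 = true := Nat.ble_eq_true_of_le hi
  rw [okCls, hb, cond_true, List.all_eq_true] at hk
  exact Nat.eq_of_beq_eq_true (hk x (by simp; omega))

end CfsgLib.ONanOut
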