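import Cfsg.Agent.ONanOut.Defs

/-! Kernel checks: the fixed points of `wa` among the 122760 points. -/

set_option autoImplicit false
set_option Elab.async false
set_option maxRecDepth 100000

namespace CfsgLib.ONanOut

open CfsgLib.CosetEnum

theorem fixA0 : allR (okFix wa [0]) 14 0 = true := by decide +kernel

theorem fixA1 : allR (okFix wa [0]) 14 16384 = true := by decide +kernel

theorem fixA2 : allR (okFix wa [0]) 14 32768 = true := by decide +kernel

theorem fixA3 : allR (okFix wa [0]) 14 49152 = true := by decide +kernel

theorem fixA4 : allR (okFix wa [0]) 14 65536 = true := by decide +kernel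

theorem fixA5 : allR (okFix wa [0]) 14 81920 = true := by decide +kernel

theorem fixA6 : allR (okFix wa [0]) 14 98304 = true := by decide +kernel

theorem fixA7 : allR (okFix wa [0]) 14 114688 = true := by decide +kernel

theorem fixA (i : ℕ) (hi : i < 122760) (h : CfsgLib.ONanAct.walk wa i = i) : memN [0] i = true := by
  have hk : okFix wa [0] i = true := by
    by_cases g0 : i < 16384
    · exact allR_spec 14 0 fixA0 i (Nat.zero_le _) (by omega)
    by_cases g1 : i < 32768
    · exact allR_spec 14 16384 fixA1 i (by omega) (by omega)
    by_cases g2 : i < 49152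
    · exact allR_spec 14 32768 fixA2 i (by omega) (by omega)
    by_cases g3 : i < 65536
    · exact allR_spec 14 49152 fixA3 i (by omega) (by omega)
    by_cases g4 : i < 81920
    · exact allR_spec 14 65536 fixA4 i (by omega) (by omega)
    by_cases g5 : i < 98304
    · exact allR_spec 14 81920 fixA5 i (by omega) (by omega)
    by_cases g6 : i < 114688
    · exact allR_spec 14 98304 fixA6 i (by omega) (by omega)
    exact allR_spec 14 114688 fixA7 i (by omega) (by omega)
  have hb : (Nat.blt i 122760) = true := Nat.ble_eq_true_of_le hi
  rw [okFix, hb, cond_true, h] at hk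
  simpa using hk

end CfsgLib.ONanOut
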