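import Cfsg.Agent.ONanOut.Base
import Cfsg.Agent.ONanOut.CheckB
import Cfsg.Agent.ONanOut.CheckFixA
import Cfsg.Agent.ONanOut.CheckFixB
import Cfsg.Agent.ONanOut.CheckCls

/-! The centralisers of the elements of order 19 and 6 of the triple. -/

set_option autoImplicit false
set_option maxRecDepth 100000

namespace CfsgLib.ONanOut

open CfsgLib.CosetEnum CfsgLib.ONanAct

noncomputable section

/-- The element of order 19. -/
def ea : Cfsg.Spor.ON := prodw gen wa

/-- The element of order 6. -/
def eb : Cfsg.Spor.ON := prodw gen wb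

theorem wa_lt : ∀ x ∈ wa, x < 6 := by decide

theorem wb_lt : ∀ x ∈ wb, x < 6 := by decide

theorem wa_lt8 : ∀ x ∈ wa, x < 8 := by decide

theorem wb_lt8 : ∀ x ∈ wb, x < 8 := by decide

theorem flat_lt (i : ℕ) : ∀ x ∈ (List.replicate i wa).flatten, x < 8 := by
  intro x hx
  obtain ⟨l, hl, hx⟩ := List.mem_flatten.mp hx
  rw [List.eq_of_mem_replicate hl] at hx
  exact wa_lt8 x hx

theorem prodw_flat : ∀ i, prodw gen (List.replicate i wa).flatten = ea ^ i
  | 0 => by simp [prodw]
  | i + 1 => by rw [List.replicate_succ, List.flatten_cons, prodw_append, prodw_flat i, pow_succ', ea]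

theorem cls_of_mem_H {z : Cfsg.Spor.ON} (hz : z ∈ H) :
    ∀ i < 122760, cls (pt z i) = cls i := by
  induction hz using Subgroup.closure_induction with
  | mem y hy =>
    obtain ⟨x, hx, rfl⟩ := hy
    have hx' : x < 6 := hx
    intro i hi
    rw [pt_gen (by omega) hi]
    exact cls_img x hx' i hi
  | one => intro i _; rw [pt_one]
  | mul y z _ _ h1 h2 => intro i hi; rw [pt_mul, h2 _ (pt_lt y hi), h1 i hi]
  | inv y _ h1 =>
    intro i hi
    conv_rhs => rw [← pt_pt_inv y i, h1 _ (pt_lt y⁻¹ hi)]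

theorem cls_eq_three {q : ℕ} (h : cls q = 3) : 110790 ≤ q ∧ q < 116376 := by
  simp only [cls, Bool.cond_eq_ite, Nat.blt_eq] at h
  split_ifs at h <;> omega

variable [Finite Cfsg.Spor.ON] (hle : Nat.card Cfsg.Spor.ON ≤ 460815505920)
include hle

/-- The computed relation is invariant. -/
theorem R_invariant (g : Cfsg.Spor.ON) {i j : ℕ} (hi : i < 122760) (hj : j < 122760)
    (h1 : R i j ≠ 9) (h2 : R (pt g i) (pt g j) ≠ 9) : R (pt g i) (pt g j) = R i j := by
  obtain ⟨z, hz0, hz⟩ := R_spec hi hj h1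
  obtain ⟨z', hz0', hz'⟩ := R_spec (pt_lt g hi) (pt_lt g hj) h2
  have hu : pt (z * g * z'⁻¹) 0 = 0 := by rw [pt_mul, pt_mul, hz0, ← hz0', pt_inv_pt]
  rw [← hz, ← hz', ← cls_of_mem_H (mem_H_of_fix hle hu) _ (pt_lt z⁻¹ hj), pt_mul, pt_mul, pt_pt_inv]

omit [Finite Cfsg.Spor.ON] hle in
theorem differ_cons (q r : ℕ) (prof : List ℕ) (p : ℕ) : differ q (r :: prof) p =
    force (walk wa p) fun p' => force (R q p') fun s =>
      (!(Nat.beq s 9) && !(Nat.beq s r)) || differ q prof p' := rfl

omit [Finite Cfsg.Spor.ON] hle in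
theorem differ_spec (q : ℕ) : ∀ (prof : List ℕ) (p : ℕ), p < 122760 → differ q prof p = true →
    ∃ k, ∃ hk : k < prof.length,
      R q (pt (ea ^ (k + 1)) p) ≠ 9 ∧ R q (pt (ea ^ (k + 1)) p) ≠ prof[k] := by
  intro prof
  induction prof with
  | nil => intro p _ h; exact Bool.noConfusion h
  | cons r prof ih =>
    intro p hp h
    rw [differ_cons] at h
    simp only [force_eq] at h
    have e : walk wa p = pt ea p := (pt_word wa wa_lt8 hp).symm
    rw [e, Bool.or_eq_true] at h
    rcases h with h | h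
    · simp only [Bool.and_eq_true, Bool.not_eq_true'] at h
      refine ⟨0, Nat.succ_pos _, ?_, ?_⟩ <;> rw [zero_add, pow_one]
      · exact fun he => by rw [he] at h; exact Bool.noConfusion h.1
      · exact fun he => by rw [he, List.getElem_cons_zero, Nat.beq_refl] at h; exact Bool.noConfusion h.2
    · obtain ⟨k, hk, h1, h2⟩ := ih (pt ea p) (pt_lt ea hp) h
      rw [← pt_mul, ← pow_succ'] at h1 h2
      exact ⟨k + 1, Nat.succ_lt_succ hk, h1, by simpa using h2⟩

omit [Finite Cfsg.Spor.ON] hle in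
theorem fixed_of_commute {g u : Cfsg.Spor.ON} (hg : Commute g u) {i : ℕ} (h : pt u i = i) :
    pt u (pt g i) = pt g i := by
  rw [← pt_mul, hg.eq, pt_mul, h]

/-- Only powers commute with the element of order 19. -/
theorem centA (g : Cfsg.Spor.ON) (hg : Commute g ea) : ∃ i < 19, g = ea ^ i := by
  have ha0 : pt ea 0 = 0 := pt_zero_of_mem (prodw_mem_H wa wa_lt)
  have hf : pt g 0 = 0 := by
    have hlt := pt_lt g (show 0 < 122760 by norm_num)
    have e := fixed_of_commute hg ha0
    rw [ea, pt_word wa wa_lt8 hlt] at e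
    have := fixA _ hlt e
    rw [memN, List.any_eq_true] at this
    obtain ⟨a, ha, hb⟩ := this
    rw [List.mem_singleton.mp ha] at hb
    exact (Nat.eq_of_beq_eq_true hb).symm
  have hq : pt g 110852 < 122760 := pt_lt g (by norm_num)
  have hc : cls (pt g 110852) = 3 := by
    rw [cls_of_mem_H (mem_H_of_fix hle hf) _ (by norm_num)]; decide
  have hrange : 110790 ≤ pt g 110852 ∧ pt g 110852 < 116376 := by
    exact cls_eq_three hc
  have hb : (Nat.ble 110790 (pt g 110852) && Nat.blt (pt g 110852) 116376) = true := by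
    simp only [Bool.and_eq_true, Nat.blt_eq, Nat.ble_eq]; exact hrange
  have hprof : okProf (pt g 110852) = true := by
    by_cases hs : pt g 110852 < 114886
    · exact allR_spec 12 110790 prof0 _ hrange.1 (by omega)
    · exact allR_spec 11 114886 prof1 _ (by omega) (by omega)
  rw [okProf, hb, cond_true, Bool.or_eq_true] at hprof
  obtain ⟨hsA, horb, hpr, hne9⟩ := centA_facts
  rcases hprof with h | h
  · rw [memN, List.any_eq_true] at h
    obtain ⟨q', hq', he⟩ := h
    rw [horb, List.mem_map] at hq'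
    obtain ⟨i, hi, rfl⟩ := hq'
    have hwalk := Nat.eq_of_beq_eq_true he
    rw [← pt_word _ (flat_lt i) (by norm_num), prodw_flat] at hwalk
    have h0 : pt (g * (ea ^ i)⁻¹) 0 = 0 := by
      rw [pt_mul, hf]
      exact pt_zero_of_mem (inv_mem (pow_mem (prodw_mem_H wa wa_lt) i))
    have h1 : pt (g * (ea ^ i)⁻¹) 110852 = 110852 := by rw [pt_mul, ← hwalk, pt_inv_pt]
    obtain ⟨s, hs, e⟩ := exists_stab hle h0 h1
    have hs8 : ∀ x ∈ s, x < 8 := fun x hx => by have := (stab_mem hs).2.2 x hx; omega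
    have hcomm : Commute (prodw gen s) ea := e ▸ hg.mul_left ((Commute.refl ea).pow_left i).inv_left
    have happ : ∀ x ∈ wa ++ s, x < 8 := fun x hx => (List.mem_append.mp hx).elim (wa_lt8 x) (hs8 x)
    have happ' : ∀ x ∈ s ++ wa, x < 8 := fun x hx => (List.mem_append.mp hx).elim (hs8 x) (wa_lt8 x)
    have heq : eqw (wa ++ s) (s ++ wa) = true :=
      eqw_of_eq happ happ' (by rw [prodw_append, prodw_append]; exact hcomm.eq.symm)
    have := List.all_eq_true.mp hsA s hs
    rw [heq, Bool.not_true, Bool.false_or] at this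
    have hone := eq_of_eqw hle hs8 (by simp) this
    rw [prodw_nil, ← e, mul_inv_eq_one] at hone
    exact ⟨i, List.mem_range.mp hi, hone⟩
  · exfalso
    obtain ⟨k, hk, h1, h2⟩ := differ_spec _ _ _ hq h
    have hcom : Commute g (ea ^ (k + 1)) := hg.pow_right _
    rw [← pt_mul, hcom.eq, pt_mul] at h1 h2
    have hval : R 110852 (pt (ea ^ (k + 1)) 110852) = profA[k] := by
      have hk' : k < ((List.range 18).map fun i =>
          R 110852 (walk ((List.replicate (i + 1) wa).flatten) 110852)).length := hpr ▸ hk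
      rw [List.getElem_of_eq hpr hk, List.getElem_map, List.getElem_range,
        ← pt_word _ (flat_lt _) (show 110852 < 122760 by norm_num), prodw_flat]
    have h9 : profA[k] ≠ 9 := fun he => by
      have := List.all_eq_true.mp hne9 _ (List.getElem_mem hk)
      rw [he] at this; exact Bool.noConfusion this
    exact h2 ((R_invariant hle g (by norm_num) (pt_lt _ (by norm_num)) (hval ▸ h9) h1).trans hval)

omit [Finite Cfsg.Spor.ON] hle in
theorem mem_fixB {g : Cfsg.Spor.ON} (hg : Commute g eb) {i : ℕ} (hi : i < 122760)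
    (h : walk wb i = i) : memN fixB (pt g i) = true := by
  have e := fixed_of_commute hg (u := eb) (i := i) (by rw [eb, pt_word wb wb_lt8 hi, h])
  rw [eb, pt_word wb wb_lt8 (pt_lt g hi)] at e
  exact fixB_complete _ (pt_lt g hi) e

/-- The centraliser of the element of order 6 is listed. -/
theorem centB (g : Cfsg.Spor.ON) (hg : Commute g eb) : ∃ w ∈ kw, g = prodw gen w := by
  have hw0 : walk wb 0 = 0 ∧ walk wb 110852 = 110852 := by decide +kernel
  have m0 := mem_fixB hg (show 0 < 122760 by norm_num) hw0.1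
  have m1 := mem_fixB hg (show 110852 < 122760 by norm_num) hw0.2
  simp only [memN, List.any_eq_true] at m0 m1
  obtain ⟨f, hf, ef⟩ := m0
  obtain ⟨f', hf', ef'⟩ := m1
  have ef := Nat.eq_of_beq_eq_true ef
  have ef' := Nat.eq_of_beq_eq_true ef'
  subst ef ef'
  have hp := List.all_eq_true.mp (List.all_eq_true.mp pairOK _ hf) _ hf'
  obtain ⟨hws, hzs, hR3⟩ := ws_facts
  rw [okPair, force_eq, Bool.or_eq_true] at hp
  rcases hp with hp | hp
  · exfalso
    simp only [Bool.and_eq_true, Bool.not_eq_true'] at hp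
    have h9 : R (pt g 0) (pt g 110852) ≠ 9 := fun he => by
      rw [he] at hp; exact Bool.noConfusion hp.1
    have h3 := R_invariant hle g (show 0 < 122760 by norm_num) (show 110852 < 122760 by norm_num)
      (by rw [hR3]; decide) h9
    rw [h3, hR3] at hp
    exact Bool.noConfusion hp.2
  · simp only [List.any_eq_true, Bool.and_eq_true] at hp
    obtain ⟨r, hr, w, hw, h1, h2⟩ := hp
    have hwc := List.all_eq_true.mp hws w hw
    simp only [Bool.and_eq_true, List.all_eq_true] at hwc
    have hw8 : ∀ x ∈ w, x < 8 := fun x hx => Nat.le_of_ble_eq_true (hwc.2 x hx)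
    have hrf := List.all_eq_true.mp reps_facts.2 r hr
    simp only [Bool.and_eq_true, List.all_eq_true] at hrf
    obtain ⟨⟨hr1, hr2⟩, hr8⟩ := hrf
    have ht8 : ∀ x ∈ r.2.2, x < 8 := fun x hx => Nat.le_of_ble_eq_true (hr8 x hx)
    have e1 : r.1 = pt (prodw gen r.2.2) 0 := by
      rw [pt_word _ ht8 (by norm_num)]; exact (Nat.eq_of_beq_eq_true hr1).symm
    have e2 : r.2.1 = pt (prodw gen r.2.2) 110852 := by
      rw [pt_word _ ht8 (by norm_num)]; exact (Nat.eq_of_beq_eq_true hr2).symm
    have l1 : r.1 < 122760 := e1 ▸ pt_lt _ (by norm_num)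
    have l2 : r.2.1 < 122760 := e2 ▸ pt_lt _ (by norm_num)
    have g1 : pt g 0 = pt (prodw gen r.2.2 * prodw gen w) 0 := by
      rw [pt_mul, ← e1, pt_word w hw8 l1, Nat.eq_of_beq_eq_true h1]
    have g2 : pt g 110852 = pt (prodw gen r.2.2 * prodw gen w) 110852 := by
      rw [pt_mul, ← e2, pt_word w hw8 l2, Nat.eq_of_beq_eq_true h2]
    obtain ⟨s, hs, e⟩ := exists_stab hle
      (z := g * (prodw gen r.2.2 * prodw gen w)⁻¹)
      (by rw [pt_mul, g1, pt_inv_pt]) (by rw [pt_mul, g2, pt_inv_pt])
    have hs8 : ∀ x ∈ s, x < 8 := fun x hx => by have := (stab_mem hs).2.2 x hx; omega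
    have hg' : g = prodw gen (s ++ r.2.2) * prodw gen w := by
      rw [prodw_append, ← e]; group
    have hwcomm : Commute (prodw gen w) eb := by
      have := eq_of_eqw hle (v := wb ++ w) (w := w ++ wb)
        (fun x hx => (List.mem_append.mp hx).elim (wb_lt8 x) (hw8 x))
        (fun x hx => (List.mem_append.mp hx).elim (hw8 x) (wb_lt8 x)) hwc.1
      rw [prodw_append, prodw_append] at this
      exact this.symm
    have hst : Commute (prodw gen (s ++ r.2.2)) eb := by
      have := hg.mul_left hwcomm.inv_left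
      rwa [hg', mul_inv_cancel_right] at this
    have hst8 : ∀ x ∈ s ++ r.2.2, x < 8 := fun x hx => (List.mem_append.mp hx).elim (hs8 x) (ht8 x)
    have heq : eqw (wb ++ s ++ r.2.2) (s ++ r.2.2 ++ wb) = true := by
      rw [List.append_assoc]
      refine eqw_of_eq (fun x hx => (List.mem_append.mp hx).elim (wb_lt8 x) (hst8 x))
        (fun x hx => (List.mem_append.mp hx).elim (hst8 x) (wb_lt8 x)) ?_
      rw [prodw_append gen wb, prodw_append gen (s ++ r.2.2) wb]
      exact hst.eq.symm
    have hok : okRep r s = true := by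
      rcases (show ∀ r ∈ reps, r = reps.getD 0 (0, 0, []) ∨ r = reps.getD 1 (0, 0, []) ∨
          r = reps.getD 2 (0, 0, []) by decide) r hr with hx | hx | hx <;> rw [hx]
      exacts [List.all_eq_true.mp rep0 s hs, List.all_eq_true.mp rep1 s hs,
        List.all_eq_true.mp rep2 s hs]
    rw [okRep, heq, Bool.not_true, Bool.false_or, Bool.and_eq_true, List.any_eq_true] at hok
    obtain ⟨ht, z, hz, hsz⟩ := hok
    have hz8 : ∀ x ∈ z, x < 8 := fun x hx =>
      Nat.le_of_ble_eq_true (List.all_eq_true.mp (List.all_eq_true.mp hzs z hz) x hx)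
    rw [List.isEmpty_iff.mp ht, List.append_nil, eq_of_eqw hle hs8 hz8 hsz] at hg'
    exact ⟨z ++ w, List.mem_flatMap.mpr ⟨z, hz, List.mem_map.mpr ⟨w, hw, rfl⟩⟩,
      by rw [prodw_append]; exact hg'⟩

end

end CfsgLib.ONanOut
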