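import Cfsg.Agent.ONanAct.Table
import Cfsg.Agent.ONanOut.Data

/-!
Boolean checks on the 122760 points of the O'Nan group: the five classes of the point stabiliser,
the invariant relation they give, comparison of words on a base, and the searches for the
centralisers of the first two members of the triple.
-/

set_option autoImplicit false

namespace CfsgLib.ONanOut

open CfsgLib.CosetEnum CfsgLib.ONanAct

/-- The orbit of the point stabiliser that contains a point. -/
def cls (i : ℕ) : ℕ :=
  bif Nat.blt i 1 then 0 else bif Nat.blt i 58654 then 1 else bif Nat.blt i 110790 then 2
  else bif Nat.blt i 116376 then 3 else 4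

/-- The five first points. -/
def isRoot (i : ℕ) : Bool :=
  Nat.beq i 0 || Nat.beq i 1 || Nat.beq i 58654 || Nat.beq i 110790 || Nat.beq i 116376

/-- The class of `j` seen from `i`, computed along the forest; `9` when the fuel does not suffice. -/
noncomputable def rel (fuel i j : ℕ) : ℕ :=
  Nat.rec (motive := fun _ => ℕ → ℕ → ℕ) (fun _ _ => 9)
    (fun _ ih i j => bif isRoot i then cls (walk (rootInv i) j)
      else force (ONanTable.forest i) fun x => bif Nat.blt x 6 then
        force (img x i) fun a => force (img x j) fun b => ih a b
      else 9) fuel i j

/-- The relation with enough fuel. -/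
noncomputable def R (i j : ℕ) : ℕ := rel 60 i j

/-- Membership in a list of numbers. -/
def memN (L : List ℕ) (q : ℕ) : Bool := L.any fun a => Nat.beq a q

/-- The letters of the triple, followed by the candidates for the centraliser of the second one. -/
def kw : List (List ℕ) := zs.flatMap fun z => ws.map fun w => z ++ w

/-- Words of the family: the triple, then the centralising elements. -/
def fam : List (List ℕ) := [wa, wb, wc] ++ kw

/-- Expand a word in the family. -/
def ex (v : List ℕ) : List ℕ := v.flatMap fun i => fam.getD i []

/-- The second image of the triple. -/
def img2 : ℕ → List ℕ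
  | 0 => [0]
  | 1 => [1]
  | _ => [53, 2]

/-- The images of the letters under the outer automorphism. -/
def fW (x : ℕ) : List ℕ := ex ((gws.getD x []).flatMap img2)

/-- Two words act alike on the base `0, 110852, 110825`. -/
noncomputable def eqw (v w : List ℕ) : Bool :=
  Nat.beq (walk v 0) (walk w 0) && Nat.beq (walk v 110852) (walk w 110852) &&
    Nat.beq (walk v 110825) (walk w 110825)

/-- A point fixed by a word is listed. -/
noncomputable def okFix (w L : List ℕ) (i : ℕ) : Bool :=
  bif Nat.blt i 122760 then !(Nat.beq (walk w i) i) || memN L i else true

/-- Some translate of `q` is related to it otherwise than the translate of `110852` to that point. -/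
noncomputable def differ (q : ℕ) (prof : List ℕ) (p : ℕ) : Bool :=
  List.rec (fun _ => false)
    (fun r _ ih p => force (walk wa p) fun p' => force (R q p') fun s =>
      (!(Nat.beq s 9) && !(Nat.beq s r)) || ih p') prof p

/-- A point of the fourth class is on the orbit of `110852` or has another profile. -/
noncomputable def okProf (q : ℕ) : Bool :=
  bif Nat.ble 110790 q && Nat.blt q 116376 then memN orbA q || differ q profA q else true

/-- A point of the fourth class other than the first has a smaller neighbour there. -/
noncomputable def okOrb (i : ℕ) : Bool :=
  bif Nat.blt 110790 i && Nat.blt i 116376 then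
    List.any [0, 1, 2, 3, 4, 5] fun x =>
      force (img x i) fun j => Nat.ble 110790 j && Nat.blt j i
  else true

/-- A pair of fixed points is related otherwise than `0` and `110852`, or is reached. -/
noncomputable def okPair (f g : ℕ) : Bool :=
  (force (R f g) fun s => !(Nat.beq s 9) && !(Nat.beq s 3)) ||
    reps.any fun r => ws.any fun w =>
      Nat.beq (walk w r.1) f && Nat.beq (walk w r.2.1) g

/-- A stabiliser word followed by a representative does not commute with `wb`, or is listed. -/
noncomputable def okRep (r : ℕ × ℕ × List ℕ) (s : List ℕ) : Bool :=
  !(eqw (wb ++ s ++ r.2.2) (s ++ r.2.2 ++ wb)) || (r.2.2.isEmpty && zs.any fun z => eqw s z)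

end CfsgLib.ONanOut
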