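import Cfsg.Agent.ONanAct.Words
import Cfsg.Agent.ONanOut.Defs

/-! Kernel checks for the generators in the triple, the outer automorphism and the other candidates. -/

set_option autoImplicit false
set_option Elab.async false
set_option maxRecDepth 100000

namespace CfsgLib.ONanOut

open CfsgLib.CosetEnum CfsgLib.ONanAct

theorem gws_facts : ∀ i < 8, (∀ a ∈ gws.getD i [], a < 3) ∧ eqw [i] (ex (gws.getD i [])) = true := by
  decide +kernel

theorem fam_lt : ∀ w ∈ fam, ∀ a ∈ w, a < 8 := by decide +kernel

theorem fw_inv : eqw (fW 6 ++ fW 7) [] = true := by decide +kernel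

theorem piRels0 : (((relWords.drop 0).take 5).all fun v => eqw (v.flatMap fW) []) = true := by decide +kernel

theorem piRels1 : (((relWords.drop 5).take 5).all fun v => eqw (v.flatMap fW) []) = true := by decide +kernel

theorem piRels2 : (((relWords.drop 10).take 5).all fun v => eqw (v.flatMap fW) []) = true := by decide +kernel

theorem piRels3 : (((relWords.drop 15).take 5).all fun v => eqw (v.flatMap fW) []) = true := by decide +kernel

theorem piRels4 : (((relWords.drop 20).take 5).all fun v => eqw (v.flatMap fW) []) = true := by decide +kernel

theorem piRels5 : (((relWords.drop 25).take 5).all fun v => eqw (v.flatMap fW) []) = true := by decide +kernel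

theorem piTriple : ∀ i < 3, eqw ((fam.getD i []).flatMap fW) (ex (img2 i)) = true := by decide +kernel

theorem piW0 : eqw ((fam.getD 53 []).flatMap fW ++ fam.getD 53 []) [] = true := by decide +kernel

/-- A candidate is one of the two allowed, or breaks a relation. -/
noncomputable def okImage (k i : ℕ) : Bool :=
  (Nat.beq k 1 && (Nat.beq i 3 || Nat.beq i 53)) ||
    rels.any fun v => !(eqw (ex (v.flatMap fun t =>
      bif Nat.beq t 0 then List.replicate k 0 else bif Nat.beq t 1 then [1] else [i, 2])) [])

theorem imageOK1 : ((List.range 72).all fun i => okImage 1 (i + 3)) = true := by decide +kernel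

theorem imageOK2 : ((List.range 72).all fun i => okImage 2 (i + 3)) = true := by decide +kernel

theorem imageOK4 : ((List.range 72).all fun i => okImage 4 (i + 3)) = true := by decide +kernel

theorem triple_facts :
    (rels.all fun v => (v.all fun a => Nat.blt a 3) && eqw (ex v) []) = true ∧
    eqw ((List.replicate 19 wa).flatten) [] = true ∧ eqw wa [] = false ∧
    eqw (wa ++ wb) (wb ++ (List.replicate 8 wa).flatten) = true ∧
    eqw (wb ++ wc) (wc ++ (List.replicate 5 wb).flatten) = true ∧
    ((List.range 19).all fun i => Nat.beq i 0 ||
      !(eqw ((List.replicate i wa).flatten ++ wb) (wb ++ (List.replicate i wa).flatten))) = true ∧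
    eqw wc (fam.getD 53 [] ++ wc) = false ∧ fam.getD 3 [] = [] ∧ kw.length = 72 := by
  decide +kernel

end CfsgLib.ONanOut
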