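import Cfsg.Agent.ONanAct.Setup

/-! A map on the generators satisfying the relator words extends to the presented O'Nan group. -/

set_option autoImplicit false
set_option linter.constructorNameAsVariable false

namespace CfsgLib.ONanOut

open CfsgLib.CosetEnum CfsgLib.ONanAct Cfsg.Spor

theorem lift_relators {K : Type} [Group K] (f : ON.Gen → K)
    (h : ∀ w ∈ relWords, prodw (letters f) w = 1) :
    ∀ r ∈ coxRelators ON.edges ∪ {r | r ∈ ON.extra}, FreeGroup.lift f r = 1 := by
  have hsq : ∀ a, a ≠ ON.Gen.g → f a * f a = 1 := by
    intro a ha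
    have hm : [ix a, ix a] ∈ relWords := by
      cases a <;> first | exact absurd rfl ha | decide
    have := h _ hm
    simpa [prodw, letters_ix] using this
  have hne : ∀ a ∈ coxNodes ON.edges, a ≠ ON.Gen.g := by decide
  have hpair : ∀ a ∈ coxNodes ON.edges, ∀ b ∈ coxNodes ON.edges, ix a ≤ ix b →
      (f a * f b) ^ coxLabel ON.edges a b = 1 := by
    intro a ha b hb hab
    obtain ⟨hr, hw⟩ := pairRel_spec a ha b hb hab
    have hm : relWords.getD (pairRel a b) [] ∈ relWords := by
      have hl : pairRel a b < relWords.length := by
        rw [show relWords.length = 30 by decide]; exact hr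
      rw [List.getD_eq_getElem _ _ hl]
      exact List.getElem_mem hl
    have h1 := h _ hm
    rw [hw] at h1
    have e : ∀ m, prodw (letters f) (List.replicate m [ix a, ix b]).flatten = (f a * f b) ^ m := by
      intro m
      induction m with
      | zero => simp [prodw]
      | succ m ih =>
        rw [List.replicate_succ, List.flatten_cons, prodw_append, ih, pow_succ']
        simp [prodw, letters_ix]
    rwa [e] at h1
  rintro r (⟨a, ha, b, hb, rfl⟩ | hr)
  · rw [map_pow, map_mul, FreeGroup.lift_apply_of, FreeGroup.lift_apply_of]
    rcases le_total (ix a) (ix b) with hab | hab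
    · exact hpair a ha b hb hab
    · have e := hpair b hb a ha hab
      rw [(show ∀ a ∈ coxNodes ON.edges, ∀ b ∈ coxNodes ON.edges,
          coxLabel ON.edges b a = coxLabel ON.edges a b by decide +kernel) a ha b hb] at e
      have h' : f a * f b = (f b * f a)⁻¹ := by
        rw [mul_inv_rev, inv_eq_of_mul_eq_one_right (hsq a (hne a ha)),
          inv_eq_of_mul_eq_one_right (hsq b (hne b hb))]
      rw [h', inv_pow, e, inv_one]
  · have hm : FreeGroup.lift f r ∈ ON.extra.map (FreeGroup.lift f) := List.mem_map_of_mem hr
    rw [extra_eq _ f hsq] at hm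
    obtain ⟨w, hw, hw'⟩ := List.mem_map.mp hm
    rw [← hw']
    exact h w (List.mem_of_mem_drop hw)

end CfsgLib.ONanOut
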