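import Cfsg.Agent.PresentedOut.Criterion
import Cfsg.Agent.ONanAct.Lower
import Cfsg.Agent.ONanOut.Centraliser
import Cfsg.Agent.ONanOut.CheckMain
import Cfsg.Agent.ONanOut.Lift

/-!
The presented O'Nan group has exactly two classes of automorphisms modulo inner ones, given the
bound on its order.
-/

set_option autoImplicit false
set_option linter.constructorNameAsVariable false
set_option maxRecDepth 100000

namespace CfsgLib.ONanOut

open CfsgLib.CosetEnum CfsgLib.ONanAct Cfsg.Spor

noncomputable section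

/-- The triple, followed by the elements commuting with the second one. -/
def xf (i : ℕ) : Cfsg.Spor.ON := prodw gen (fam.getD i [])

theorem prodw_flatMap (f : ℕ → List ℕ) {K : Type*} [Group K] (g : ℕ → K) :
    ∀ v, prodw g (v.flatMap f) = prodw (fun i => prodw g (f i)) v :=
  PresentedOut.prodw_flatMap g f

theorem prodw_xf (v : List ℕ) : prodw xf v = prodw gen (ex v) :=
  (prodw_flatMap (fun i => fam.getD i []) gen v).symm

theorem getD_lt (i : ℕ) : ∀ a ∈ fam.getD i [], a < 8 := by
  intro a ha
  by_cases hi : i < fam.length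
  · rw [List.getD_eq_getElem _ _ hi] at ha
    exact fam_lt _ (List.getElem_mem hi) a ha
  · rw [List.getD_eq_default _ _ (Nat.le_of_not_lt hi)] at ha
    simp at ha

theorem ex_lt (v : List ℕ) : ∀ a ∈ ex v, a < 8 := by
  intro a ha
  obtain ⟨i, -, hi⟩ := List.mem_flatMap.mp ha
  exact getD_lt i a hi

theorem fW_lt (x : ℕ) : ∀ a ∈ fW x, a < 8 := ex_lt _

theorem flatMap_fW_lt (v : List ℕ) : ∀ a ∈ v.flatMap fW, a < 8 := by
  intro a ha
  obtain ⟨i, -, hi⟩ := List.mem_flatMap.mp ha
  exact fW_lt i a hi

theorem append_lt {v w : List ℕ} (hv : ∀ a ∈ v, a < 8) (hw : ∀ a ∈ w, a < 8) :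
    ∀ a ∈ v ++ w, a < 8 := fun a ha => (List.mem_append.mp ha).elim (hv a) (hw a)

theorem flat_lt' (w : List ℕ) (hw : ∀ a ∈ w, a < 8) (i : ℕ) :
    ∀ a ∈ (List.replicate i w).flatten, a < 8 := by
  intro a ha
  obtain ⟨l, hl, hx⟩ := List.mem_flatten.mp ha
  rw [List.eq_of_mem_replicate hl] at hx
  exact hw a hx

theorem prodw_flat' (w : List ℕ) : ∀ i, prodw gen (List.replicate i w).flatten = prodw gen w ^ i
  | 0 => by simp [prodw]
  | i + 1 => by
    rw [List.replicate_succ, List.flatten_cons, prodw_append, prodw_flat' w i, pow_succ']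

theorem xf_zero : xf 0 = prodw gen wa := rfl

theorem xf_one : xf 1 = prodw gen wb := rfl

theorem xf_two : xf 2 = prodw gen wc := rfl

variable [Finite Cfsg.Spor.ON] (hle : Nat.card Cfsg.Spor.ON ≤ 460815505920)
include hle

/-- The rigid triple. -/
theorem exists_rigid :
    ∃ R : PresentedOut.Rigid xf ((List.range 72).map fun i => [i + 3]), R.p = 19 ∧ R.r = 8 := by
  obtain ⟨-, hpow, hne, hab, hbc, -, -, -, hkw⟩ := triple_facts
  refine ⟨{
    p := 19
    r := 8
    r' := 12
    s := 5
    hp := by norm_num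
    hr := rfl
    pow_a := ?_
    a_ne := ?_
    a_b := ?_
    b_c := ?_
    sylow := ?_
    centA := ?_
    centB := ?_
    shift := by decide }, rfl, rfl⟩
  · have h := eq_of_eqw hle (flat_lt' wa wa_lt8 19) (by simp) hpow
    rwa [prodw_flat', prodw_nil] at h
  · intro h
    rw [eqw_of_eq wa_lt8 (by simp) (by rw [prodw_nil]; exact h)] at hne
    exact Bool.noConfusion hne
  · have h := eq_of_eqw hle (append_lt wa_lt8 wb_lt8) (append_lt wb_lt8 (flat_lt' wa wa_lt8 8)) hab
    rw [prodw_append, prodw_append, prodw_flat'] at h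
    exact h
  · have hc : ∀ a ∈ wc, a < 8 := getD_lt 2
    have h := eq_of_eqw hle (append_lt wb_lt8 hc) (append_lt hc (flat_lt' wb wb_lt8 5)) hbc
    rw [prodw_append, prodw_append, prodw_flat'] at h
    exact h
  · rw [ONanAct.card_eq hle]; norm_num
  · exact centA hle
  · intro g hg
    obtain ⟨w, hw, rfl⟩ := centB hle g hg
    obtain ⟨i, hi, rfl⟩ := List.getElem_of_mem hw
    refine ⟨[i + 3], List.mem_map.mpr ⟨i, List.mem_range.mpr (hkw ▸ hi), rfl⟩, ?_⟩
    rw [show prodw xf [i + 3] = prodw gen (fam.getD (i + 3) []) by simp [prodw, xf]]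
    have key : fam.getD (i + 3) [] = kw[i] := by
      show kw.getD i [] = kw[i]
      exact List.getD_eq_getElem _ _ hi
    rw [key]

/-- A candidate image of the triple. -/
def cand (k i t : ℕ) : List ℕ :=
  bif Nat.beq t 0 then List.replicate k 0 else bif Nat.beq t 1 then [1] else [i, 2]

omit [Finite Cfsg.Spor.ON] hle in
theorem cand_zero (k i : ℕ) : cand k i 0 = List.replicate k 0 := rfl

omit [Finite Cfsg.Spor.ON] hle in
theorem cand_one (k i : ℕ) : cand k i 1 = [1] := rfl

omit [Finite Cfsg.Spor.ON] hle in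
theorem cand_two (k i : ℕ) : cand k i 2 = [i, 2] := rfl

/-- The generators lie in the group of the triple. -/
theorem gen_eq {i : ℕ} (hi : i < 8) : gen i = prodw xf (gws.getD i []) := by
  have h := eq_of_eqw hle (v := [i]) (by simpa using hi) (ex_lt _) (gws_facts i hi).2
  rw [prodw_xf, ← h]
  simp [prodw]

theorem card_out_ON : Nat.card (Cfsg.Out Cfsg.Spor.ON) = 2 := by
  obtain ⟨R, hp, hr⟩ := exists_rigid hle
  obtain ⟨hrels, -, -, -, -, hsep, hwc, hthree, -⟩ := triple_facts
  -- the second automorphism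
  let f : ON.Gen → Cfsg.Spor.ON := fun a => prodw gen (fW (ONanAct.ix a))
  have hlet : ∀ x < 8, letters f x = prodw gen (fW x) := by
    intro x hx
    have h := eq_of_eqw hle (append_lt (fW_lt 6) (fW_lt 7)) (by simp) fw_inv
    rw [prodw_append, prodw_nil] at h
    rcases x with _ | _ | _ | _ | _ | _ | _ | _ | x
    all_goals first | rfl | omega | exact inv_eq_of_mul_eq_one_right h
  have hwords : ∀ v ∈ relWords, ∀ a ∈ v, a < 8 := by decide +kernel
  have hf : ∀ v ∈ relWords, prodw (letters f) v = 1 := by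
    intro v hv
    rw [PresentedOut.prodw_congr (fun a ha => hlet a (hwords v hv a ha)), ← prodw_flatMap fW gen,
      ← prodw_nil gen]
    refine eq_of_eqw hle (flatMap_fW_lt v) (by simp) ?_
    have hsplit : relWords = (relWords.drop 0).take 5 ++ (relWords.drop 5).take 5 ++
        (relWords.drop 10).take 5 ++ (relWords.drop 15).take 5 ++ (relWords.drop 20).take 5 ++
        (relWords.drop 25).take 5 := by decide +kernel
    rw [hsplit] at hv
    simp only [List.mem_append] at hv
    rcases hv with ((((hv | hv) | hv) | hv) | hv) | hv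
    exacts [List.all_eq_true.mp piRels0 v hv, List.all_eq_true.mp piRels1 v hv,
      List.all_eq_true.mp piRels2 v hv, List.all_eq_true.mp piRels3 v hv,
      List.all_eq_true.mp piRels4 v hv, List.all_eq_true.mp piRels5 v hv]
  let π₀ : Cfsg.Spor.ON →* Cfsg.Spor.ON := PresentedGroup.toGroup (lift_relators f hf)
  have hπg : ∀ x < 8, π₀ (gen x) = prodw gen (fW x) := by
    intro x hx
    rw [← hlet x hx]
    have hof : ∀ a, π₀ (PresentedGroup.of a) = f a :=
      fun a => PresentedGroup.toGroup.of (lift_relators f hf)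
    rcases x with _ | _ | _ | _ | _ | _ | _ | _ | x <;>
      first | omega | simp [gen, letters, hof]
  have hπw : ∀ v : List ℕ, (∀ a ∈ v, a < 8) → π₀ (prodw gen v) = prodw gen (v.flatMap fW) := by
    intro v hv
    rw [prodw_flatMap fW gen, PresentedOut.map_prodw]
    exact PresentedOut.prodw_congr fun a ha => hπg a (hv a ha)
  have hπx : ∀ i < 3, π₀ (xf i) = prodw xf (img2 i) := by
    intro i hi
    rw [xf, hπw _ (getD_lt i), prodw_xf]
    exact eq_of_eqw hle (flatMap_fW_lt _) (ex_lt _) (piTriple i hi)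
  have hw0 : π₀ (xf 53) = (xf 53)⁻¹ := by
    rw [xf, hπw _ (getD_lt 53)]
    have h := eq_of_eqw hle (append_lt (flatMap_fW_lt _) (getD_lt 53)) (by simp) piW0
    rw [prodw_append, prodw_nil] at h
    exact eq_inv_of_mul_eq_one_left h
  have htwice : ∀ i < 3, π₀ (π₀ (xf i)) = xf i := by
    intro i hi
    rcases (show i = 0 ∨ i = 1 ∨ i = 2 by omega) with rfl | rfl | rfl
    · rw [hπx 0 hi, show prodw xf (img2 0) = xf 0 by simp [img2, prodw], hπx 0 hi]
      simp [img2, prodw]
    · rw [hπx 1 hi, show prodw xf (img2 1) = xf 1 by simp [img2, prodw], hπx 1 hi]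
      simp [img2, prodw]
    · rw [hπx 2 hi, show prodw xf (img2 2) = xf 53 * xf 2 by simp [img2, prodw], map_mul, hw0,
        hπx 2 hi, show prodw xf (img2 2) = xf 53 * xf 2 by simp [img2, prodw], inv_mul_cancel_left]
  have hgen : Subgroup.closure (Set.range fun i : Fin 3 => xf i.val) = ⊤ := by
    rw [eq_top_iff, ← PresentedGroup.closure_range_of, Subgroup.closure_le]
    rintro _ ⟨a, rfl⟩
    have hof : (PresentedGroup.of a : Cfsg.Spor.ON) = gen (ONanAct.ix a) := by cases a <;> rfl
    have hix : ONanAct.ix a < 8 := by cases a <;> decide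
    show PresentedGroup.of a ∈ _
    rw [hof, gen_eq hle hix]
    refine Subgroup.list_prod_mem _ fun u hu => ?_
    obtain ⟨i, hi, rfl⟩ := List.mem_map.mp hu
    exact Subgroup.subset_closure ⟨⟨i, (gws_facts _ hix).1 i hi⟩, rfl⟩
  have hinvol : ∀ z, π₀ (π₀ z) = z := by
    have he : π₀.comp π₀ = MonoidHom.id _ := by
      refine MonoidHom.eq_of_eqOn_top fun y hy => ?_
      rw [← hgen] at hy
      exact MonoidHom.eqOn_closure (f := π₀.comp π₀) (g := MonoidHom.id _)
        (by rintro _ ⟨i, rfl⟩; exact htwice i.val i.isLt) hy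
    exact fun z => DFunLike.congr_fun he z
  let π : MulAut Cfsg.Spor.ON :=
    MulEquiv.ofBijective π₀ (Function.Involutive.bijective hinvol)
  refine CfsgLib.SporadicOut.card_out_eq_two (fun i : Fin 3 => xf i.val) hgen π (fun θ => ?_)
    (fun g => ?_)
  · have hmove : ∀ k < R.p, k = 0 ∨ ∃ j < R.p, k * R.r ^ j % R.p ∈ [1, 2, 4] := by
      rw [hp, hr]; decide +kernel
    obtain ⟨g, k, hk, w, hw, hg⟩ := R.normal_form [1, 2, 4] hmove θ
    obtain ⟨i, hi, rfl⟩ := List.mem_map.mp hw
    let χ : MulAut Cfsg.Spor.ON := MulAut.conj g * θ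
    have hχ : ∀ t < 3, χ (xf t) = prodw xf (cand k (i + 3) t) := by
      intro t ht
      refine (hg t ht).trans ?_
      rcases (show t = 0 ∨ t = 1 ∨ t = 2 by omega) with rfl | rfl | rfl <;> rfl
    have hok : okImage k (i + 3) = true := by
      simp only [List.mem_cons, List.not_mem_nil, or_false] at hk
      rcases hk with rfl | rfl | rfl
      exacts [List.all_eq_true.mp imageOK1 i hi, List.all_eq_true.mp imageOK2 i hi,
        List.all_eq_true.mp imageOK4 i hi]
    simp only [okImage, Bool.or_eq_true, Bool.and_eq_true, List.any_eq_true,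
      Bool.not_eq_true'] at hok
    refine ⟨g, ?_⟩
    rcases hok with ⟨hk1, hi'⟩ | ⟨v, hv, hbad⟩
    · obtain rfl := Nat.eq_of_beq_eq_true hk1
      rcases hi' with hi' | hi'
      · refine Or.inl fun t => ?_
        have h := hχ t.val t.isLt
        rw [Nat.eq_of_beq_eq_true hi'] at h
        refine h.trans ?_
        have hx3 : xf 3 = 1 := by rw [xf, hthree, prodw_nil]
        obtain ⟨t, ht⟩ := t
        rcases (show t = 0 ∨ t = 1 ∨ t = 2 by omega) with rfl | rfl | rfl <;>
          simp [cand_zero, cand_one, cand_two, prodw, hx3]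
      · refine Or.inr fun t => ?_
        have h := hχ t.val t.isLt
        rw [Nat.eq_of_beq_eq_true hi'] at h
        refine h.trans ?_
        show _ = π₀ (xf t.val)
        rw [hπx t.val t.isLt]
        obtain ⟨t, ht⟩ := t
        rcases (show t = 0 ∨ t = 1 ∨ t = 2 by omega) with rfl | rfl | rfl <;>
          simp [cand_zero, cand_one, cand_two, img2, prodw]
    · exfalso
      have hv' := List.all_eq_true.mp hrels v hv
      simp only [Bool.and_eq_true, List.all_eq_true] at hv'
      have hv3 : ∀ a ∈ v, a < 3 := fun a ha => Nat.le_of_ble_eq_true (hv'.1 a ha)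
      have h1 : prodw xf v = 1 := by
        rw [prodw_xf, ← prodw_nil gen]; exact eq_of_eqw hle (ex_lt _) (by simp) hv'.2
      have h2 : prodw gen (ex (v.flatMap (cand k (i + 3)))) = prodw gen [] := by
        rw [← prodw_xf, prodw_flatMap (cand k (i + 3)) xf, prodw_nil, ← map_one χ, ← h1]
        show _ = χ.toMonoidHom (prodw xf v)
        rw [PresentedOut.map_prodw]
        exact PresentedOut.prodw_congr fun a ha => (hχ a (hv3 a ha)).symm
      have h3 := eqw_of_eq (ex_lt _) (by simp) h2
      unfold cand at h3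
      rw [h3] at hbad
      exact Bool.noConfusion hbad
  · by_contra hall
    simp only [not_exists, not_not] at hall
    have hall' : ∀ t < 3, g * xf t = prodw xf (img2 t) * g := fun t ht =>
      mul_inv_eq_iff_eq_mul.mp ((hall ⟨t, ht⟩).trans (hπx t ht))
    have h0 := hall' 0 (by norm_num)
    have h1 := hall' 1 (by norm_num)
    have h2 := hall' 2 (by norm_num)
    rw [show prodw xf (img2 0) = xf 0 by simp [img2, prodw]] at h0
    rw [show prodw xf (img2 1) = xf 1 by simp [img2, prodw]] at h1
    rw [show prodw xf (img2 2) = xf 53 * xf 2 by simp [img2, prodw]] at h2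
    obtain ⟨k, hk, rfl⟩ := centA hle g h0
    have hk0 : k = 0 := by
      have := List.all_eq_true.mp hsep k (List.mem_range.mpr hk)
      rw [eqw_of_eq (append_lt (flat_lt k) wb_lt8) (append_lt wb_lt8 (flat_lt k))
        (by rw [prodw_append, prodw_append, prodw_flat]; exact h1)] at this
      simpa using this
    subst hk0
    rw [pow_zero, one_mul, mul_one] at h2
    rw [eqw_of_eq (v := wc) (w := fam.getD 53 [] ++ wc) (getD_lt 2)
      (append_lt (getD_lt 53) (getD_lt 2)) (by rw [prodw_append]; exact h2)] at hwc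
    exact Bool.noConfusion hwc

end

end CfsgLib.ONanOut
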