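import Cfsg.Agent.ONanAct.Action
import Cfsg.Agent.ONanOut.Defs

/-!
The O'Nan group seen from the right on the points `0, …, 122759`, and the relation computed along
the forest.
-/

set_option autoImplicit false
set_option maxRecDepth 100000

namespace CfsgLib.ONanOut

open CfsgLib.CosetEnum CfsgLib.ONanAct

noncomputable section

/-- The image of a point under an element, from the right. -/
def pt (z : Cfsg.Spor.ON) (i : ℕ) : ℕ :=
  if h : i < 122760 then ((act z)⁻¹ ⟨i, h⟩).val else i

theorem pt_lt (z : Cfsg.Spor.ON) {i : ℕ} (h : i < 122760) : pt z i < 122760 := by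
  rw [pt, dif_pos h]; exact Fin.isLt _

theorem pt_one (i : ℕ) : pt 1 i = i := by
  unfold pt; split_ifs <;> simp

theorem pt_mul (y z : Cfsg.Spor.ON) (i : ℕ) : pt (y * z) i = pt z (pt y i) := by
  by_cases h : i < 122760
  · rw [pt, dif_pos h, map_mul, mul_inv_rev, Equiv.Perm.mul_apply]
    conv_rhs => rw [pt, dif_pos (pt_lt y h)]
    congr 2
    apply Fin.ext
    simp [pt, h]
  · simp [pt, h]

theorem pt_inv_pt (z : Cfsg.Spor.ON) (i : ℕ) : pt z⁻¹ (pt z i) = i := by
  rw [← pt_mul, mul_inv_cancel, pt_one]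

theorem pt_pt_inv (z : Cfsg.Spor.ON) (i : ℕ) : pt z (pt z⁻¹ i) = i := by
  rw [← pt_mul, inv_mul_cancel, pt_one]

theorem pt_word (w : List ℕ) (hw : ∀ x ∈ w, x < 8) {i : ℕ} (h : i < 122760) :
    pt (prodw gen w) i = walk w i := by
  rw [pt, dif_pos h]; exact act_word w hw ⟨i, h⟩

theorem pt_gen {x : ℕ} (hx : x < 8) {i : ℕ} (h : i < 122760) : pt (gen x) i = img x i := by
  have e := pt_word [x] (by simpa using hx) h
  rwa [walk_cons, walk_nil, show prodw gen [x] = gen x by simp [prodw]] at e

theorem exists_pt {i : ℕ} (h : i < 122760) : ∃ z, pt z 0 = i := by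
  obtain ⟨z, hz⟩ := exists_act_zero ⟨i, h⟩
  refine ⟨z⁻¹, ?_⟩
  rw [pt, dif_pos (by norm_num), map_inv, inv_inv]
  exact congrArg Fin.val hz

/-- The first points are taken to `0` by their words. -/
theorem rootInv_spec : ∀ i ∈ [0, 1, 58654, 110790, 116376],
    walk (rootInv i) i = 0 ∧ ∀ x ∈ rootInv i, x < 8 := by
  decide +kernel

theorem rel_succ (n i j : ℕ) : rel (n + 1) i j =
    bif isRoot i then cls (walk (rootInv i) j)
      else force (ONanTable.forest i) fun x => bif Nat.blt x 6 then
        force (img x i) fun a => force (img x j) fun b => rel n a b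
      else 9 := rfl

/-- A computed value of the relation is the class seen through some element. -/
theorem rel_spec : ∀ (n i j : ℕ), i < 122760 → j < 122760 → rel n i j ≠ 9 →
    ∃ z, pt z 0 = i ∧ cls (pt z⁻¹ j) = rel n i j := by
  intro n
  induction n with
  | zero => intro i j _ _ h; exact absurd rfl h
  | succ n ih =>
    intro i j hi hj h
    rw [rel_succ] at h ⊢
    cases hr : isRoot i
    · simp only [hr, cond_false, force_eq] at h ⊢
      cases hx : Nat.blt (ONanTable.forest i) 6
      · simp only [hx, cond_false] at h; exact absurd rfl h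
      · simp only [hx, cond_true] at h ⊢
        have hx6 : ONanTable.forest i < 6 := Nat.le_of_ble_eq_true hx
        generalize ONanTable.forest i = x at h hx6 ⊢
        have ei := pt_gen (show x < 8 by omega) hi
        have ej := pt_gen (show x < 8 by omega) hj
        obtain ⟨z, hz0, hz⟩ := ih (img x i) (img x j) (ei ▸ pt_lt _ hi) (ej ▸ pt_lt _ hj) h
        refine ⟨z * (gen x)⁻¹, ?_, ?_⟩
        · rw [pt_mul, hz0, ← ei, pt_inv_pt]
        · rw [mul_inv_rev, inv_inv, pt_mul, ej, hz]
    · simp only [hr, cond_true] at h ⊢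
      have hmem : i ∈ [0, 1, 58654, 110790, 116376] := by
        simp only [isRoot, Bool.or_eq_true] at hr
        rcases hr with (((hr | hr) | hr) | hr) | hr <;>
          rw [Nat.eq_of_beq_eq_true hr] <;> simp
      obtain ⟨h0, hlt⟩ := rootInv_spec i hmem
      refine ⟨(prodw gen (rootInv i))⁻¹, ?_, ?_⟩
      · have e := pt_word (rootInv i) hlt hi
        rw [h0] at e
        conv_lhs => rw [← e]
        exact pt_inv_pt _ _
      · rw [inv_inv, pt_word _ hlt hj]

theorem R_spec {i j : ℕ} (hi : i < 122760) (hj : j < 122760) (h : R i j ≠ 9) :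
    ∃ z, pt z 0 = i ∧ cls (pt z⁻¹ j) = R i j := rel_spec 60 i j hi hj h

end

end CfsgLib.ONanOut
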